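import Cfsg.Agent.Lib.PermGp.TwoAlt.Decomp

/-!
# Commutators with a double transposition in the first entry
-/

set_option autoImplicit false

namespace Cfsg.Agent.PermGp.TwoAlt

open Equiv

variable {α : Type*} [Fintype α] [DecidableEq α]

/-- Two disjoint transpositions occurring as cycles of `a`. -/
def HasPair (a : Perm α) : Prop :=
  ∃ x y v w, [x, y, v, w].Nodup ∧ a x = y ∧ a y = x ∧ a v = w ∧ a w = v

theorem hasPair_of {t a : Perm α} (ht : t * t = 1) {E : Finset α} (hE : ∀ z ∈ E, t z ∈ E) (hEs : E ⊆ t.support)
    (hag : ∀ z ∈ E, a z = t z) (h4 : 3 ≤ E.card) : HasPair a := by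
  have htt : ∀ z, t (t z) = z := fun z => by rw [← Perm.mul_apply, ht, Perm.one_apply]
  obtain ⟨x, hx⟩ := Finset.card_pos.mp (by omega : 0 < E.card)
  obtain ⟨v, hv⟩ := Finset.card_pos.mp (show 0 < ((E.erase x).erase (t x)).card by
    have := Finset.pred_card_le_card_erase (a := x) (s := E)
    have := Finset.pred_card_le_card_erase (a := t x) (s := E.erase x)
    omega)
  rw [Finset.mem_erase, Finset.mem_erase] at hv
  obtain ⟨hvy, hvx, hvE⟩ := hv
  refine ⟨x, t x, v, t v, ?_, hag x hx, by rw [hag _ (hE x hx), htt], hag v hvE, by rw [hag _ (hE v hvE), htt]⟩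
  have h1 := Perm.mem_support.mp (hEs hx)
  have h2 := Perm.mem_support.mp (hEs hvE)
  simp only [List.nodup_cons, List.mem_cons, List.not_mem_nil, or_false, not_or, List.nodup_nil, and_true,
    not_false_eq_true]
  refine ⟨⟨Ne.symm h1, Ne.symm hvx, fun e => hvy ?_⟩, ⟨Ne.symm hvy, fun e => hvx ?_⟩, Ne.symm h2⟩
  · rw [e, htt]
  · exact (t.injective e).symm

/-- An involution times a transposition joining a fixed and a moved point. -/
theorem cycleType_mul_swap {t : Perm α} (ht : t * t = 1) {p q : α} (hp : t p = p) (hq : t q ≠ q) :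
    (t * swap p q).cycleType = 3 ::ₘ Multiset.replicate (t.support.card / 2 - 1) 2 := by
  have htt : ∀ z, t (t z) = z := fun z => by rw [← Perm.mul_apply, ht, Perm.one_apply]
  set r := t q with hr
  have hpq : p ≠ q := fun e => hq (show t q = q by rw [← e, hp])
  have hpr : p ≠ r := fun e => hpq (t.injective (hp.trans e))
  set t0 := t * swap q r with ht0
  have htr : t r = q := htt q
  have h0q : t0 q = q := by rw [ht0, Perm.mul_apply, swap_apply_left, htr]
  have h0r : t0 r = r := by rw [ht0, Perm.mul_apply, swap_apply_right]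
  have h0p : t0 p = p := by rw [ht0, Perm.mul_apply, swap_apply_of_ne_of_ne hpq hpr, hp]
  have hd : Perm.Disjoint t0 (swap q r * swap q p) := fun z => by
    by_cases hz : z = q ∨ z = r ∨ z = p
    · rcases hz with rfl | rfl | rfl
      · exact Or.inl h0q
      · exact Or.inl h0r
      · exact Or.inl h0p
    · push Not at hz
      exact Or.inr (by rw [Perm.mul_apply, swap_apply_of_ne_of_ne hz.1 hz.2.2, swap_apply_of_ne_of_ne hz.1 hz.2.1])
  have h3 : (swap q r * swap q p).IsThreeCycle :=
    Perm.isThreeCycle_swap_mul_swap_same (Ne.symm hq) (Ne.symm hpq) (Ne.symm hpr)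
  have hd' : Perm.Disjoint t0 (swap q r) := fun z => by
    by_cases hz : z = q ∨ z = r
    · rcases hz with rfl | rfl
      · exact Or.inl h0q
      · exact Or.inl h0r
    · push Not at hz
      exact Or.inr (swap_apply_of_ne_of_ne hz.1 hz.2)
  have h00 : t0 * t0 = 1 := by
    have h2 : t = t0 * swap q r := by rw [ht0, mul_assoc, swap_mul_self, mul_one]
    calc t0 * t0 = t0 * (swap q r * swap q r) * t0 := by rw [swap_mul_self, mul_one]
      _ = t0 * swap q r * (swap q r * t0) := by group
      _ = t0 * swap q r * (t0 * swap q r) := by rw [hd'.commute.eq]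
      _ = 1 := by rw [← h2, ht]
  have e1 : t * swap p q = t0 * (swap q r * swap q p) := by
    rw [ht0, ← mul_assoc, mul_assoc t, swap_mul_self, mul_one, swap_comm]
  have e2 : t.support.card = t0.support.card + 2 := by
    conv_lhs => rw [show t = t0 * swap q r by rw [ht0, mul_assoc, swap_mul_self, mul_one]]
    rw [hd'.card_support_mul, Perm.card_support_swap (Ne.symm hq)]
  rw [e1, hd.cycleType_mul, h3.cycleType, cycleType_involution h00, e2, add_comm,
    show (t0.support.card + 2) / 2 - 1 = t0.support.card / 2 by omega]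
  rfl

theorem exists_conj_of_cycleType {a s : Perm α} (h : s.cycleType = a.cycleType) (hp : HasPair a) :
    ∃ b : Perm α, Perm.sign b = 1 ∧ b * a⁻¹ * b⁻¹ = s := by
  obtain ⟨x, y, v, w, hnd, hxy, hyx, -, -⟩ := hp
  obtain ⟨b, hb⟩ := isConj_iff.mp (Perm.isConj_iff_cycleType_eq.mpr ((Perm.cycleType_inv a).trans h.symm))
  rcases Int.units_eq_one_or (Perm.sign b) with e | e
  · exact ⟨b, e, hb⟩
  · have hne : x ≠ y := by
      rw [List.nodup_cons] at hnd
      exact fun e => hnd.1 (e ▸ List.mem_cons_self)
    have hca : swap x y * a = a * swap x y := by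
      conv_lhs => rw [← show swap (a x) (a y) = swap x y by rw [hxy, hyx, swap_comm]]
      rw [swap_apply_apply, mul_assoc, inv_mul_cancel, mul_one]
    refine ⟨b * swap x y, by rw [map_mul, e, Perm.sign_swap hne]; decide, ?_⟩
    rw [← hb]
    calc b * swap x y * a⁻¹ * (b * swap x y)⁻¹ = b * (swap x y * a * (swap x y)⁻¹)⁻¹ * b⁻¹ := by group
      _ = b * a⁻¹ * b⁻¹ := by rw [hca, mul_inv_cancel_right]

/-- Every nontrivial even permutation is a commutator `[a, b]` with `a` having two transposition cycles. -/
theorem exists_commutator {σ : Perm α} (hσ : Perm.sign σ = 1) (h1 : σ ≠ 1) (h5 : 5 ≤ Fintype.card α) :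
    ∃ a b : Perm α, Perm.sign a = 1 ∧ Perm.sign b = 1 ∧ HasPair a ∧ a * b * a⁻¹ * b⁻¹ = σ := by
  suffices ∃ a : Perm α, Perm.sign a = 1 ∧ HasPair a ∧ (a⁻¹ * σ).cycleType = a.cycleType by
    obtain ⟨a, ha, hpair, hc⟩ := this
    obtain ⟨b, hb, he⟩ := exists_conj_of_cycleType hc hpair
    exact ⟨a, b, ha, hb, hpair, by rw [mul_assoc a, mul_assoc a, he, mul_inv_cancel_left]⟩
  obtain ⟨t, ht, heven, -, hne⟩ := exists_rev σ
  have hcard := heven hσ
  set t' := t * σ with ht'
  have hσe : σ = t * t' := by rw [ht', ← mul_assoc, ht.sq, one_mul]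
  have htinv := involution_inv ht.sq
  have htt : ∀ z, t (t z) = z := fun z => by rw [← Perm.mul_apply, ht.sq, Perm.one_apply]
  have htmem : ∀ z ∈ t.support, t z ∈ t.support := fun z hz => Perm.apply_mem_support.mpr hz
  obtain ⟨M, hM⟩ := even_card_support ht.sq
  have hM' : t'.support.card = 2 * M := hcard.symm.trans hM
  have hMpos : 0 < M := by
    by_contra h
    have e1 : t = 1 := Perm.support_eq_empty_iff.mp (Finset.card_eq_zero.mp (by omega))
    have e2 : t' = 1 := Perm.support_eq_empty_iff.mp (Finset.card_eq_zero.mp (by omega))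
    rw [hσe, e1, e2, one_mul] at h1
    exact h1 rfl
  rcases Nat.even_or_odd M with hev | hodd
  · refine ⟨t, by rw [sign_involution ht.sq, hM, Nat.mul_div_cancel_left _ two_pos, hev.neg_one_pow], ?_, ?_⟩
    · exact hasPair_of ht.sq htmem subset_rfl (fun _ _ => rfl) (by obtain ⟨e, he⟩ := hev; omega)
    · rw [htinv, cycleType_involution ht.sq, cycleType_involution ht.sq', hcard]
  obtain ⟨e, he⟩ := hodd
  -- points fixed by only one of the two involutions
  have hdiff : t.support ≠ t'.support := fun heq => by
    rcases hne h1 with h | h <;> apply h <;>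
    · refine Finset.Subset.antisymm ?_ fun z hz => ?_
      · first | exact ht.supp | exact ht.supp'
      · by_contra hzt
        have z1 : t z = z := Perm.notMem_support.mp (by first | exact hzt | (rw [heq]; exact hzt))
        have z2 : t' z = z := Perm.notMem_support.mp (by first | exact hzt | (rw [← heq]; exact hzt))
        apply Perm.mem_support.mp hz
        rw [hσe, Perm.mul_apply, z2, z1]
  obtain ⟨q, hq, hq'⟩ : ∃ q ∈ t.support, q ∉ t'.support := Finset.not_subset.mp fun hsub =>
    hdiff (Finset.eq_of_subset_of_card_le hsub hcard.ge)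
  obtain ⟨p, hp, hp'⟩ : ∃ p ∈ t'.support, p ∉ t.support := Finset.not_subset.mp fun hsub =>
    hdiff (Finset.eq_of_subset_of_card_le hsub hcard.le).symm
  rw [Perm.notMem_support] at hp' hq'
  have hpq : p ≠ q := fun e' => Perm.mem_support.mp hq (e' ▸ hp')
  by_cases hM1 : M = 1
  · -- two transpositions
    subst hM1
    obtain ⟨a, b, hab, ta⟩ := Perm.card_support_eq_two.mp (by omega : t.support.card = 2)
    obtain ⟨c, d, hcd, ta'⟩ := Perm.card_support_eq_two.mp (by omega : t'.support.card = 2)
    by_cases hd : Perm.Disjoint t t'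
    · rw [ta, ta'] at hd
      have h4 : [a, b, c, d].Nodup := by
        have ha := hd a; have hb := hd b
        simp only [swap_apply_left, swap_apply_right] at ha hb
        simp only [List.nodup_cons, List.mem_cons, List.not_mem_nil, or_false, not_or, List.nodup_nil, and_true,
          not_false_eq_true]
        have ha' := ha.resolve_left (Ne.symm hab)
        have hb' := hb.resolve_left hab
        refine ⟨⟨hab, fun h => ?_, fun h => ?_⟩, ⟨fun h => ?_, fun h => ?_⟩, hcd⟩
        · subst h; rw [swap_apply_left] at ha'; exact hcd ha'.symm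
        · subst h; rw [swap_apply_right] at ha'; exact hcd ha'
        · subst h; rw [swap_apply_left] at hb'; exact hcd hb'.symm
        · subst h; rw [swap_apply_right] at hb'; exact hcd hb'
      simp only [List.nodup_cons, List.mem_cons, List.not_mem_nil, or_false, not_or, List.nodup_nil, and_true,
        not_false_eq_true] at h4
      obtain ⟨⟨-, hac, had⟩, ⟨hbc, hbd⟩, -⟩ := h4
      have hdis : ∀ {x y z w : α}, x ≠ z → x ≠ w → y ≠ z → y ≠ w → Perm.Disjoint (swap x y) (swap z w) :=
        fun {x y z w} a1 a2 a3 a4 u => by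
          by_cases hu : u = x ∨ u = y
          · rcases hu with rfl | rfl
            · exact Or.inr (swap_apply_of_ne_of_ne a1 a2)
            · exact Or.inr (swap_apply_of_ne_of_ne a3 a4)
          · push Not at hu
            exact Or.inl (swap_apply_of_ne_of_ne hu.1 hu.2)
      have d1 := hdis (x := a) (y := c) (z := b) (w := d) hab had (Ne.symm hbc) hcd
      have hsq : swap a c * swap b d * (swap a c * swap b d) = 1 := by
        rw [mul_assoc, ← mul_assoc (swap b d), ← d1.commute.eq, mul_assoc, swap_mul_self, mul_one, swap_mul_self]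
      refine ⟨swap a c * swap b d, by rw [map_mul, Perm.sign_swap hac, Perm.sign_swap hbd]; decide, ?_, ?_⟩
      · refine ⟨a, c, b, d, ?_, ?_, ?_, ?_, ?_⟩
        · simp [hab, hac, had, hcd, hbd, Ne.symm hbc]
        · rw [Perm.mul_apply, swap_apply_of_ne_of_ne hab had, swap_apply_left]
        · rw [Perm.mul_apply, swap_apply_of_ne_of_ne (Ne.symm hbc) hcd, swap_apply_right]
        · rw [Perm.mul_apply, swap_apply_left, swap_apply_of_ne_of_ne (Ne.symm had) (Ne.symm hcd)]
        · rw [Perm.mul_apply, swap_apply_right, swap_apply_of_ne_of_ne (Ne.symm hab) hbc]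
      · have d2 := hdis (x := a) (y := d) (z := b) (w := c) hab hac (Ne.symm hbd) (Ne.symm hcd)
        have e' : (swap a c * swap b d)⁻¹ * σ = swap a d * swap b c := by
          rw [involution_inv hsq, hσe, ta, ta']
          ext z
          simp only [Perm.mul_apply]
          by_cases hz : z = a ∨ z = b ∨ z = c ∨ z = d
          · rcases hz with h | h | h | h <;> subst h <;>
              simp [swap_apply_def, hab, hac, had, hbc, hbd, hcd, Ne.symm hab, Ne.symm hac, Ne.symm had, Ne.symm hbc,
                Ne.symm hbd, Ne.symm hcd]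
          · push Not at hz
            simp [swap_apply_def, hz.1, hz.2.1, hz.2.2.1, hz.2.2.2]
        rw [e', Perm.cycleType_swap_mul_swap_of_nodup (show [a, d, b, c].Nodup by
            simp [hab, hac, had, hbc, Ne.symm hbd, Ne.symm hcd]),
          Perm.cycleType_swap_mul_swap_of_nodup (show [a, c, b, d].Nodup by
            simp [hab, hac, had, hbd, hcd, Ne.symm hbc])]
    · have hU : (t.support ∪ t'.support).card ≤ 3 := by
        have h2 := Finset.card_union_add_card_inter t.support t'.support
        have h3 : 0 < (t.support ∩ t'.support).card := Finset.card_pos.mpr (by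
          rw [Finset.nonempty_iff_ne_empty]
          exact fun h => hd (Perm.disjoint_iff_disjoint_support.mpr (Finset.disjoint_iff_inter_eq_empty.mpr h)))
        omega
      obtain ⟨u, hu, v, hv, huv⟩ := Finset.one_lt_card.mp (show 1 < (t.support ∪ t'.support)ᶜ.card by
        rw [Finset.card_compl]; omega)
      rw [Finset.mem_compl, Finset.mem_union, not_or, Perm.notMem_support, Perm.notMem_support] at hu hv
      have hdu : ∀ {s : Perm α}, s u = u → s v = v → Perm.Disjoint s (swap u v) := fun {s} su sv z => by
        by_cases hz : z = u ∨ z = v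
        · rcases hz with rfl | rfl
          · exact Or.inl su
          · exact Or.inl sv
        · push Not at hz
          exact Or.inr (swap_apply_of_ne_of_ne hz.1 hz.2)
      have d1 := hdu hu.1 hv.1
      have d2 := hdu hu.2 hv.2
      have hsq : t * swap u v * (t * swap u v) = 1 := by
        rw [mul_assoc, ← mul_assoc (swap u v), ← d1.commute.eq, mul_assoc, swap_mul_self, mul_one, ht.sq]
      refine ⟨t * swap u v, ?_, ?_, ?_⟩
      · rw [map_mul, ta, Perm.sign_swap hab, Perm.sign_swap huv]; decide
      · have hs4 : (t * swap u v).support.card = 4 := by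
          rw [d1.card_support_mul, hM, Perm.card_support_swap huv]
        exact hasPair_of hsq (fun z hz => Perm.apply_mem_support.mpr hz) subset_rfl (fun _ _ => rfl) (by omega)
      · rw [mul_inv_rev, htinv, swap_inv, mul_assoc, ← ht', ← d2.commute.eq, d2.cycleType_mul, d1.cycleType_mul,
          cycleType_involution ht.sq, cycleType_involution ht.sq', hcard]
  · refine ⟨t * swap p q, ?_, ?_, ?_⟩
    · rw [map_mul, sign_involution ht.sq, hM, Nat.mul_div_cancel_left _ two_pos, Perm.sign_swap hpq,
        Odd.neg_one_pow ⟨e, he⟩]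
      decide
    · refine hasPair_of ht.sq (E := (t.support.erase q).erase (t q)) (fun z hz => ?_)
        ((Finset.erase_subset _ _).trans (Finset.erase_subset _ _)) (fun z hz => ?_) ?_
      · rw [Finset.mem_erase, Finset.mem_erase] at hz ⊢
        exact ⟨fun h => hz.2.1 (t.injective h), fun h => hz.1 (by rw [← h, htt]), htmem z hz.2.2⟩
      · rw [Finset.mem_erase, Finset.mem_erase] at hz
        rw [Perm.mul_apply, swap_apply_of_ne_of_ne (fun h : z = p => Perm.mem_support.mp hz.2.2 (h ▸ hp')) hz.2.1]
      · have := Finset.pred_card_le_card_erase (a := q) (s := t.support)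
        have := Finset.pred_card_le_card_erase (a := t q) (s := t.support.erase q)
        omega
    · have e1 : (t * swap p q)⁻¹ * σ = (t' * swap p q)⁻¹ := by
        rw [mul_inv_rev, mul_inv_rev, htinv, involution_inv ht.sq', swap_inv, mul_assoc]
      rw [e1, Perm.cycleType_inv, swap_comm p q, cycleType_mul_swap ht.sq' hq' (Perm.mem_support.mp hp),
        swap_comm q p, cycleType_mul_swap ht.sq hp' (Perm.mem_support.mp hq), hcard]

end Cfsg.Agent.PermGp.TwoAlt
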