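import Cfsg.Agent.S0447
import Cfsg.Agent.Lib.PermGp.TwoAlt.Split

/-!
# Commutators in the double cover of an alternating group
-/

set_option autoImplicit false

namespace Cfsg.Agent.PermGp.TwoAlt

open Equiv

theorem comm_eq_of_ker {G A : Type*} [Group G] [Group A] (π : G →* A) {z : G}
    (hker : ∀ g, π g = 1 → g = 1 ∨ g = z) (hz : ∀ g, g * z = z * g) (hz2 : z * z = 1) {u v : G}
    (h : π u * π v = π v * π u) : u * v = v * u ∨ u * v = z * (v * u) := by
  have h1 : π (u * v * (v * u)⁻¹) = 1 := by rw [map_mul, map_inv, map_mul, map_mul, h, mul_inv_cancel]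
  rcases hker _ h1 with e | e
  · exact Or.inl (mul_inv_eq_one.mp e)
  · exact Or.inr (mul_inv_eq_iff_eq_mul.mp e)

theorem swap_pair_apply {n : ℕ} {x y v w : Fin n} (h : [x, y, v, w].Nodup) :
    (swap x y * swap v w) x = y ∧ (swap x y * swap v w) y = x ∧ (swap x y * swap v w) v = w ∧
      (swap x y * swap v w) w = v ∧ swap x y * swap v w * (swap x y * swap v w) = 1 := by
  simp only [List.nodup_cons, List.mem_cons, List.not_mem_nil, or_false, not_or, List.nodup_nil, and_true,
    not_false_eq_true] at h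
  obtain ⟨⟨hxy, hxv, hxw⟩, ⟨hyv, hyw⟩, hvw⟩ := h
  refine ⟨?_, ?_, ?_, ?_, ?_⟩
  · rw [Perm.mul_apply, swap_apply_of_ne_of_ne hxv hxw, swap_apply_left]
  · rw [Perm.mul_apply, swap_apply_of_ne_of_ne hyv hyw, swap_apply_right]
  · rw [Perm.mul_apply, swap_apply_left, swap_apply_of_ne_of_ne (Ne.symm hxw) (Ne.symm hyw)]
  · rw [Perm.mul_apply, swap_apply_right, swap_apply_of_ne_of_ne (Ne.symm hxv) (Ne.symm hyv)]
  · ext u
    by_cases hu : u = x ∨ u = y ∨ u = v ∨ u = w
    · rcases hu with e | e | e | e <;> subst e <;>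
        simp [swap_apply_def, hxy, hxv, hxw, hyv, hyw, hvw, Ne.symm hxy, Ne.symm hxv, Ne.symm hxw, Ne.symm hyv,
          Ne.symm hyw, Ne.symm hvw]
    · push Not at hu
      simp [swap_apply_def, hu.1, hu.2.1, hu.2.2.1, hu.2.2.2]

variable {n : ℕ}

/-- Every element of a perfect double cover of an alternating group is a commutator. -/
theorem exists_commutator_lift {G : Type*} [Group G] [Finite G] (hperf : commutator G = ⊤) (hn : 5 ≤ n)
    (hZ : Nat.card (Subgroup.center G) = 2) (e : G ⧸ Subgroup.center G ≃* alternatingGroup (Fin n)) (g : G) :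
    ∃ a b : G, a * b * a⁻¹ * b⁻¹ = g := by
  classical
  obtain ⟨m, rfl⟩ : ∃ m, n = m + 2 := ⟨n - 2, by omega⟩
  set π : G →* Perm (Fin (m + 2)) :=
    ((alternatingGroup (Fin (m + 2))).subtype.comp e.toMonoidHom).comp (QuotientGroup.mk' (Subgroup.center G)) with hπ
  have hker1 : ∀ u, π u = 1 ↔ u ∈ Subgroup.center G := fun u => by
    show ((e (QuotientGroup.mk' _ u)) : Perm (Fin (m + 2))) = 1 ↔ _
    rw [OneMemClass.coe_eq_one, e.map_eq_one_iff]
    exact QuotientGroup.eq_one_iff u
  have hsurj : ∀ σ : Perm (Fin (m + 2)), Perm.sign σ = 1 → ∃ u, π u = σ := fun σ hσ => by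
    obtain ⟨u, hu⟩ := QuotientGroup.mk'_surjective (Subgroup.center G) (e.symm ⟨σ, Perm.mem_alternatingGroup.mpr hσ⟩)
    refine ⟨u, ?_⟩
    show ((e (QuotientGroup.mk' _ u)) : Perm (Fin (m + 2))) = σ
    rw [hu, e.apply_symm_apply]
  have hsign : ∀ u, Perm.sign (π u) = 1 := fun u => Perm.mem_alternatingGroup.mp (e (QuotientGroup.mk' _ u)).2
  obtain ⟨z, hzc, hz1, hzall⟩ : ∃ z ∈ Subgroup.center G, z ≠ 1 ∧ ∀ u ∈ Subgroup.center G, u = 1 ∨ u = z := by
    obtain ⟨⟨z, hz⟩, hz1, hall⟩ : ∃ z : Subgroup.center G, z ≠ 1 ∧ ∀ u, u = 1 ∨ u = z := by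
      obtain ⟨a, b, hab, huniv⟩ := Nat.card_eq_two_iff.mp hZ
      have hmem : ∀ u, u = a ∨ u = b := fun u => by
        have hu : u ∈ ({a, b} : Set (Subgroup.center G)) := huniv ▸ Set.mem_univ u
        exact hu
      rcases hmem 1 with h | h
      · exact ⟨b, fun e => hab (h.symm.trans e.symm), fun u => (hmem u).imp (fun e => e.trans h.symm) id⟩
      · exact ⟨a, fun e => hab (e.trans h), fun u => (hmem u).symm.imp (fun e => e.trans h.symm) id⟩
    exact ⟨z, hz, fun e => hz1 (Subtype.ext e), fun u hu => (hall ⟨u, hu⟩).imp (congrArg Subtype.val) (congrArg Subtype.val)⟩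
  have hker : ∀ u, π u = 1 → u = 1 ∨ u = z := fun u hu => hzall u ((hker1 u).mp hu)
  have hzz : ∀ u : G, u * z = z * u := fun u => Subgroup.mem_center_iff.mp hzc u
  have hz2 : z * z = 1 := by
    rcases hzall _ ((Subgroup.center G).mul_mem hzc hzc) with h | h
    · exact h
    · exact absurd (mul_left_cancel (h.trans (mul_one z).symm)) hz1
  have hπz : π z = 1 := (hker1 z).mpr hzc
  -- involutions with four moved points lift to elements of order four
  have hdt : ∀ u : G, π u * π u = 1 → (π u).support.card = 4 → u * u = z := by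
    intro u₀ hu₀ hu₀4
    have hu1 : π (u₀ * u₀) = 1 := by rw [map_mul]; exact hu₀
    refine (hker _ hu1).resolve_left fun h0 => ?_
    -- otherwise the extension splits
    have hall : ∀ u : G, π u * π u = 1 → (π u).support.card = 4 → u * u = 1 := by
      intro u hu hu4
      have hct : (π u).cycleType = (π u₀).cycleType := by
        rw [cycleType_involution hu, cycleType_involution hu₀, hu4, hu₀4]
      obtain ⟨c, hc⟩ := isConj_iff.mp (Perm.isConj_iff_cycleType_eq.mpr hct.symm)
      obtain ⟨c', hc', hc2⟩ : ∃ c', Perm.sign c' = 1 ∧ c' * π u₀ * c'⁻¹ = π u := by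
        rcases Int.units_eq_one_or (Perm.sign c) with h | h
        · exact ⟨c, h, hc⟩
        · obtain ⟨x, hx⟩ := Finset.card_pos.mp (show 0 < (π u₀).support.card by omega)
          have hne := Perm.mem_support.mp hx
          have hsw : π u₀ * swap x (π u₀ x) = swap x (π u₀ x) * π u₀ := by
            conv_rhs => rw [show swap x (π u₀ x) = swap (π u₀ (π u₀ x)) (π u₀ x) by
              rw [← Perm.mul_apply, hu₀, Perm.one_apply]]
            rw [swap_apply_apply, mul_assoc, inv_mul_cancel, mul_one, swap_comm]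
          refine ⟨c * swap x (π u₀ x), by rw [map_mul, h, Perm.sign_swap (Ne.symm hne)]; decide, ?_⟩
          rw [← hc, mul_inv_rev, mul_assoc c, ← hsw, swap_inv]
          simp only [mul_assoc, swap_mul_self_mul]
      obtain ⟨w, hw⟩ := hsurj c' hc'
      have h1 : π (u⁻¹ * (w * u₀ * w⁻¹)) = 1 := by
        rw [map_mul, map_inv, map_mul, map_mul, map_inv, hw, hc2, inv_mul_cancel]
      have hsq : (w * u₀ * w⁻¹) * (w * u₀ * w⁻¹) = 1 := by
        rw [show (w * u₀ * w⁻¹) * (w * u₀ * w⁻¹) = w * (u₀ * u₀) * w⁻¹ by group, h0]; group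
      rcases hker _ h1 with h | h
      · rw [inv_mul_eq_one.mp h]; exact hsq
      · rw [inv_mul_eq_iff_eq_mul] at h
        rw [h] at hsq
        calc u * u = u * u * (z * z) := by rw [hz2, mul_one]
          _ = u * (u * z) * z := by group
          _ = u * (z * u) * z := by rw [hzz u]
          _ = u * z * (u * z) := by group
          _ = 1 := hsq
    have hX : ∀ i, ∃ h : G, i < m → π h = Cfsg.Agent.S0447.cyc m i ∧ h ^ 3 = 1 := by
      intro i
      by_cases hi : i < m
      · obtain ⟨hp, hA⟩ := (Cfsg.Agent.S0447.cyc_props m).1 i hi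
        obtain ⟨u, hu⟩ := hsurj _ (Perm.mem_alternatingGroup.mp hA)
        have hu3 : π (u ^ 3) = 1 := by rw [map_pow, hu]; exact hp
        rcases hker _ hu3 with h | h
        · exact ⟨u, fun _ => ⟨hu, h⟩⟩
        · refine ⟨u * z, fun _ => ⟨by rw [map_mul, hu, hπz, mul_one], ?_⟩⟩
          rw [(show Commute u z from hzz u).mul_pow, h, pow_succ z 2, pow_two, hz2, one_mul, hz2]
      · exact ⟨1, fun h => absurd h hi⟩
    choose X hX using hX
    have h2X : ∀ i, i < m → ∀ j, j < m → i ≠ j → (X i * X j) ^ 2 = 1 := by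
      intro i hi j hj hij
      obtain ⟨hsq, hne⟩ := (Cfsg.Agent.S0447.cyc_props m).2 i hi j hj hij
      have himg : π (X i * X j) = Cfsg.Agent.S0447.cyc m i * Cfsg.Agent.S0447.cyc m j := by
        rw [map_mul, (hX i hi).1, (hX j hj).1]
      have hinv : π (X i * X j) * π (X i * X j) = 1 := by rw [himg, ← pow_two]; exact hsq
      rw [pow_two]
      refine hall _ hinv ?_
      have hsub : (π (X i * X j)).support ⊆
          ({0, 1, ⟨i + 2, by omega⟩, ⟨j + 2, by omega⟩} : Finset (Fin (m + 2))) := by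
        intro x hx
        rw [himg] at hx
        by_contra hxm
        simp only [Finset.mem_insert, Finset.mem_singleton, not_or] at hxm
        apply Perm.mem_support.mp hx
        rw [Cfsg.Agent.S0447.cyc, dif_pos hi, Cfsg.Agent.S0447.cyc, dif_pos hj]
        simp [Perm.mul_apply, swap_apply_def, hxm.1, hxm.2.1, hxm.2.2.1, hxm.2.2.2]
      have hle := (Finset.card_le_card hsub).trans Finset.card_le_four
      obtain ⟨k, hk⟩ := even_card_support hinv
      have hk0 : k ≠ 0 := fun h => hne (by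
        rw [← himg]
        exact Perm.support_eq_empty_iff.mp (Finset.card_eq_zero.mp (by omega)))
      have hk1 : k ≠ 1 := fun h => by
        have h2 := sign_involution hinv
        rw [hsign, hk, h] at h2
        exact absurd h2 (by decide)
      omega
    set L := Subgroup.closure (X '' {i | i < m}) with hL
    have hle := Cfsg.Agent.S0447.pres_card X m (fun i hi => (hX i hi).2) h2X
    have himgL : alternatingGroup (Fin (m + 2)) ≤ L.map π := by
      refine (Cfsg.Agent.S0447.cyc_gen m).trans ?_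
      rw [Subgroup.closure_le]
      rintro _ ⟨i, hi, rfl⟩
      exact ⟨X i, Subgroup.subset_closure ⟨i, hi, rfl⟩, (hX i hi).1⟩
    have hzL : z ∉ L := by
      intro hzL
      have h1 := (π.subgroupMap L).ker.card_mul_index
      rw [Subgroup.index_ker, MonoidHom.range_eq_top.mpr (π.subgroupMap_surjective L), Subgroup.card_top] at h1
      have h2 : 2 ≤ Nat.card (π.subgroupMap L).ker := by
        haveI : Nontrivial (π.subgroupMap L).ker := ⟨⟨⟨⟨z, hzL⟩, Subtype.ext hπz⟩, 1, fun h => hz1 (by
          exact congrArg Subtype.val (congrArg Subtype.val h))⟩⟩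
        exact Finite.one_lt_card
      have h3 := Subgroup.card_le_of_le himgL
      have h4 := Nat.mul_le_mul h2 h3
      rw [h1] at h4
      have h5 := Cfsg.Agent.S0447.card_alt m
      have h6 := Nat.factorial_pos (m + 2)
      rw [← hL] at hle
      omega
    have hcover : ∀ u : G, u ∈ L ∨ u * z ∈ L := fun u => by
      obtain ⟨l, hl, hlu⟩ := himgL (Perm.mem_alternatingGroup.mpr (hsign u))
      rcases hker (u⁻¹ * l) (by rw [map_mul, map_inv, hlu, inv_mul_cancel]) with h | h
      · left; rwa [inv_mul_eq_one.mp h]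
      · right; rwa [← inv_mul_eq_iff_eq_mul.mp h]
    have hcom : commutator G ≤ L := by
      rw [commutator_def, Subgroup.commutator_le]
      intro a _ b _
      have key : ∀ a b : G, a * z * b * (a * z)⁻¹ * b⁻¹ = a * b * a⁻¹ * b⁻¹ ∧
          a * (b * z) * a⁻¹ * (b * z)⁻¹ = a * b * a⁻¹ * b⁻¹ := fun a b => by
        constructor
        · rw [mul_assoc a z b, ← hzz b]; group
        · rw [mul_inv_rev, ← mul_assoc a b z]
          calc a * b * z * a⁻¹ * (z⁻¹ * b⁻¹) = a * b * (z * a⁻¹) * z⁻¹ * b⁻¹ := by group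
            _ = a * b * (a⁻¹ * z) * z⁻¹ * b⁻¹ := by rw [hzz]
            _ = _ := by group
      rw [commutatorElement_def]
      rcases hcover a with ha | ha <;> rcases hcover b with hb | hb
      · exact L.mul_mem (L.mul_mem (L.mul_mem ha hb) (L.inv_mem ha)) (L.inv_mem hb)
      · rw [← (key a b).2]
        exact L.mul_mem (L.mul_mem (L.mul_mem ha hb) (L.inv_mem ha)) (L.inv_mem hb)
      · rw [← (key a b).1]
        exact L.mul_mem (L.mul_mem (L.mul_mem ha hb) (L.inv_mem ha)) (L.inv_mem hb)
      · rw [← (key a b).1, ← (key (a * z) b).2]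
        exact L.mul_mem (L.mul_mem (L.mul_mem ha hb) (L.inv_mem ha)) (L.inv_mem hb)
    exact hzL (hcom (hperf ▸ Subgroup.mem_top z))
  -- anticommuting lifts for an element with two transposition cycles
  have hwit : ∀ A : G, HasPair (π A) → ∃ C : G, π C * π A = π A * π C ∧ A * C = z * (C * A) := by
    rintro A ⟨x, y, v, w, hnd, hxy, hyx, hvw, hwv⟩
    obtain ⟨dx, dy, dv, dw, dsq⟩ := swap_pair_apply hnd
    have hnd2 : [x, v, y, w].Nodup := by
      simp only [List.nodup_cons, List.mem_cons, List.not_mem_nil, or_false, not_or, List.nodup_nil, and_true,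
        not_false_eq_true] at hnd ⊢
      exact ⟨⟨hnd.1.2.1, hnd.1.1, hnd.1.2.2⟩, ⟨Ne.symm hnd.2.1.1, hnd.2.2⟩, hnd.2.1.2⟩
    obtain ⟨cx, cv, cy, cw, csq⟩ := swap_pair_apply hnd2
    set d := swap x y * swap v w with hd
    set c := swap x v * swap y w with hc
    simp only [List.nodup_cons, List.mem_cons, List.not_mem_nil, or_false, not_or, List.nodup_nil, and_true,
      not_false_eq_true] at hnd
    obtain ⟨⟨hxy', hxv', hxw'⟩, ⟨hyv', hyw'⟩, hvw'⟩ := hnd
    have dout : ∀ u, u ≠ x → u ≠ y → u ≠ v → u ≠ w → d u = u := fun u a b c' e => by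
      rw [hd, Perm.mul_apply, swap_apply_of_ne_of_ne c' e, swap_apply_of_ne_of_ne a b]
    have cout : ∀ u, u ≠ x → u ≠ y → u ≠ v → u ≠ w → c u = u := fun u a b c' e => by
      rw [hc, Perm.mul_apply, swap_apply_of_ne_of_ne b e, swap_apply_of_ne_of_ne a c']
    have four : ∀ s : Perm (Fin (m + 2)), s x ≠ x → s y ≠ y → s v ≠ v → s w ≠ w →
        (∀ u, u ≠ x → u ≠ y → u ≠ v → u ≠ w → s u = u) → s.support.card = 4 := fun s a b c' e hout => by
      rw [show s.support = {x, y, v, w} by
        ext u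
        rw [Perm.mem_support, Finset.mem_insert, Finset.mem_insert, Finset.mem_insert, Finset.mem_singleton]
        refine ⟨fun h => ?_, fun h => by rcases h with rfl | rfl | rfl | rfl <;> assumption⟩
        by_contra hn'
        push Not at hn'
        exact h (hout u hn'.1 hn'.2.1 hn'.2.2.1 hn'.2.2.2)]
      simp [hxy', hxv', hxw', hyv', hyw', hvw']
    have d4 : d.support.card = 4 :=
      four d (by rw [dx]; exact Ne.symm hxy') (by rw [dy]; exact hxy') (by rw [dv]; exact Ne.symm hvw') (by rw [dw]; exact hvw') dout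
    have c4 : c.support.card = 4 :=
      four c (by rw [cx]; exact Ne.symm hxv') (by rw [cy]; exact Ne.symm hyw') (by rw [cv]; exact hxv') (by rw [cw]; exact hyw') cout
    have hdc : d * c = c * d := by
      ext u
      by_cases hu : u = x ∨ u = y ∨ u = v ∨ u = w
      · rcases hu with e | e | e | e <;> subst e <;> simp only [Perm.mul_apply, dx, dy, dv, dw, cx, cy, cv, cw]
      · push Not at hu
        simp only [Perm.mul_apply, dout u hu.1 hu.2.1 hu.2.2.1 hu.2.2.2, cout u hu.1 hu.2.1 hu.2.2.1 hu.2.2.2]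
    have hdc4 : (d * c).support.card = 4 := four _ (by rw [Perm.mul_apply, cx, dv]; exact Ne.symm hxw')
      (by rw [Perm.mul_apply, cy, dw]; exact Ne.symm hyv') (by rw [Perm.mul_apply, cv, dx]; exact hyv')
      (by rw [Perm.mul_apply, cw, dy]; exact hxw')
      (fun u a b c' e => by rw [Perm.mul_apply, cout u a b c' e, dout u a b c' e])
    have hdcsq : d * c * (d * c) = 1 := by
      calc d * c * (d * c) = d * (c * d) * c := by group
        _ = d * (d * c) * c := by rw [hdc]
        _ = (d * d) * (c * c) := by group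
        _ = 1 := by rw [dsq, csq, one_mul]
    have hsd : Perm.sign d = 1 := by rw [hd, map_mul, Perm.sign_swap hxy', Perm.sign_swap hvw']; decide
    have hsc : Perm.sign c = 1 := by rw [hc, map_mul, Perm.sign_swap hxv', Perm.sign_swap hyw']; decide
    obtain ⟨D, hD⟩ := hsurj d hsd
    obtain ⟨C, hC⟩ := hsurj c hsc
    have hD2 : D * D = z := hdt D (by rw [hD, dsq]) (by rw [hD, d4])
    have hC2 : C * C = z := hdt C (by rw [hC, csq]) (by rw [hC, c4])
    have hDC2 : D * C * (D * C) = z := hdt (D * C) (by rw [map_mul, hD, hC, hdcsq]) (by rw [map_mul, hD, hC, hdc4])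
    have hanti : D * C = z * (C * D) := by
      have e1 : C * D * (D * C) = 1 := by
        calc C * D * (D * C) = C * (D * D) * C := by group
          _ = C * C * z := by rw [hD2, mul_assoc, ← hzz C, ← mul_assoc]
          _ = 1 := by rw [hC2, hz2]
      calc D * C = D * C * (D * C) * (D * C)⁻¹ := by group
        _ = z * (C * D) := by rw [hDC2, inv_eq_of_mul_eq_one_left e1]
    -- elements fixing the four points
    set K : Subgroup (Perm (Fin (m + 2))) := (Subgroup.centralizer ({C} : Set G)).map π with hK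
    have h3K : ∀ s : Perm (Fin (m + 2)), Perm.sign s = 1 → s ^ 3 = 1 → s * c = c * s → s ∈ K := by
      intro s hs1 hs3 hsc'
      obtain ⟨S, hS⟩ := hsurj s hs1
      refine ⟨S, Subgroup.mem_centralizer_singleton_iff.mpr ?_, hS⟩
      rcases comm_eq_of_ker π hker hzz hz2 (u := S) (v := C) (by rw [hS, hC, hsc']) with h | h
      · exact h
      · exfalso
        have h3 : S ^ 3 * C = C * S ^ 3 := by
          rcases hker (S ^ 3) (by rw [map_pow, hS, hs3]) with e | e <;> rw [e]
          · rw [one_mul, mul_one]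
          · exact (hzz C).symm
        apply hz1
        have e1 : S * C * S⁻¹ = z * C := by rw [h]; group
        have e2 : S * (z * C) * S⁻¹ = C := by
          calc S * (z * C) * S⁻¹ = S * z * C * S⁻¹ := by group
            _ = z * S * C * S⁻¹ := by rw [hzz S]
            _ = z * (S * C * S⁻¹) := by group
            _ = z * z * C := by rw [e1, mul_assoc]
            _ = C := by rw [hz2, one_mul]
        have e3 : S * S * S * C * (S * S * S)⁻¹ = z * C := by
          rw [show S * S * S * C * (S * S * S)⁻¹ = S * (S * (S * C * S⁻¹) * S⁻¹) * S⁻¹ by group, e1, e2, e1]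
        have e4 : S * S * S * C * (S * S * S)⁻¹ = C := by
          rw [show S * S * S = S ^ 3 by rw [pow_succ, pow_two], h3, mul_inv_cancel_right]
        rw [e4] at e3
        exact mul_right_cancel (e3.symm.trans (one_mul C).symm)
    have hr : ∀ r : Perm (Fin (m + 2)), Perm.sign r = 1 → r x = x → r y = y → r v = v → r w = w → r ∈ K := by
      intro r hr1 rx ry rv rw'
      set p : Fin (m + 2) → Prop := fun u => u ≠ x ∧ u ≠ y ∧ u ≠ v ∧ u ≠ w
      have hmem : ∀ u, p (r u) ↔ p u := fun u => by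
        have he : ∀ q, r q = q → (r u = q ↔ u = q) := fun q hq =>
          ⟨fun e => r.injective (e.trans hq.symm), fun e => e ▸ hq⟩
        simp only [p, ne_eq, he x rx, he y ry, he v rv, he w rw']
      have hfix : ∀ u, r u ≠ u → p u := fun u hu =>
        ⟨fun e => hu (e ▸ rx), fun e => hu (e ▸ ry), fun e => hu (e ▸ rv), fun e => hu (e ▸ rw')⟩
      rw [← Perm.ofSubtype_subtypePerm hmem hfix]
      have hmem' : r.subtypePerm hmem ∈ alternatingGroup (Subtype p) := by
        rw [Perm.mem_alternatingGroup, Perm.sign_subtypePerm _ hmem hfix, hr1]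
      rw [← Equiv.Perm.closure_three_cycles_eq_alternating] at hmem'
      have hle : Subgroup.closure {s : Perm (Subtype p) | s.IsThreeCycle} ≤
          K.comap (Perm.ofSubtype : Perm (Subtype p) →* Perm (Fin (m + 2))) := by
        rw [Subgroup.closure_le]
        intro s hs
        refine h3K _ ?_ ?_ ?_
        · rw [Perm.sign_ofSubtype, Perm.IsThreeCycle.sign hs]
        · rw [← map_pow, ← Perm.IsThreeCycle.orderOf hs, pow_orderOf_eq_one, map_one]
        · refine (Perm.Disjoint.commute fun u => ?_).eq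
          by_cases hu : p u
          · exact Or.inr (cout u hu.1 hu.2.1 hu.2.2.1 hu.2.2.2)
          · exact Or.inl (Perm.ofSubtype_apply_of_not_mem _ hu)
      exact hle hmem'
    obtain ⟨R, hRC, hR⟩ := hr (d * π A) (by rw [map_mul, hsd, hsign, one_mul]) (by rw [Perm.mul_apply, hxy, dy])
      (by rw [Perm.mul_apply, hyx, dx]) (by rw [Perm.mul_apply, hvw, dw]) (by rw [Perm.mul_apply, hwv, dv])
    have hDR : π (D * R) = π A := by rw [map_mul, hD, hR, ← mul_assoc, dsq, one_mul]
    refine ⟨C, ?_, ?_⟩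
    · have h1 : π R * c = c * π R := by
        rw [← hC, ← map_mul, ← map_mul, Subgroup.mem_centralizer_singleton_iff.mp hRC]
      rw [hC, ← hDR, map_mul, hD]
      calc c * (d * π R) = c * d * π R := by group
        _ = d * (c * π R) := by rw [← hdc]; group
        _ = d * π R * c := by rw [← h1]; group
    · have hRC' := Subgroup.mem_centralizer_singleton_iff.mp hRC
      have hAD : D * R * C = z * (C * (D * R)) := by
        rw [mul_assoc, hRC', ← mul_assoc, hanti]; group
      rcases hker (A * (D * R)⁻¹) (by rw [map_mul, map_inv, hDR, mul_inv_cancel]) with h | h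
      · rw [mul_inv_eq_one.mp h]; exact hAD
      · rw [mul_inv_eq_iff_eq_mul.mp h, mul_assoc z, hAD, ← mul_assoc C z, hzz C, mul_assoc z C]
  -- the trivial class
  by_cases hg : π g = 1
  · rcases hker g hg with rfl | rfl
    · exact ⟨1, 1, by group⟩
    · have h4 : [(⟨0, by omega⟩ : Fin (m + 2)), ⟨1, by omega⟩, ⟨2, by omega⟩, ⟨3, by omega⟩].Nodup := by
        simp [Fin.ext_iff]
      obtain ⟨a1, a2, a3, a4, -⟩ := swap_pair_apply h4
      obtain ⟨A, hA⟩ := hsurj (swap (⟨0, by omega⟩ : Fin (m + 2)) ⟨1, by omega⟩ * swap ⟨2, by omega⟩ ⟨3, by omega⟩) (by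
        rw [map_mul, Perm.sign_swap (by simp [Fin.ext_iff]), Perm.sign_swap (by simp [Fin.ext_iff])]; decide)
      obtain ⟨C, -, hAC⟩ := hwit A ⟨_, _, _, _, h4, hA ▸ a1, hA ▸ a2, hA ▸ a3, hA ▸ a4⟩
      exact ⟨A, C, by rw [hAC]; group⟩
  obtain ⟨a, b, ha, hb, hp, hab⟩ := exists_commutator (hsign g) hg (by rw [Fintype.card_fin]; omega)
  obtain ⟨A, hA⟩ := hsurj a ha
  obtain ⟨B, hB⟩ := hsurj b hb
  obtain ⟨C, -, hAC⟩ := hwit A (hA ▸ hp)
  have himg : π (g * (A * B * A⁻¹ * B⁻¹)⁻¹) = 1 := by
    simp only [map_mul, map_inv, hA, hB, hab, mul_inv_cancel]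
  rcases hker _ himg with h | h
  · exact ⟨A, B, (mul_inv_eq_one.mp h).symm⟩
  · refine ⟨A, B * C, ?_⟩
    rw [mul_inv_eq_iff_eq_mul.mp h]
    have hCA : C * A⁻¹ * C⁻¹ = z * A⁻¹ := by
      have : C * A⁻¹ = z * (A⁻¹ * C) := by
        calc C * A⁻¹ = A⁻¹ * (A * C) * A⁻¹ := by group
          _ = A⁻¹ * z * C := by rw [hAC]; group
          _ = _ := by rw [hzz A⁻¹, mul_assoc]
      rw [this]; group
    calc A * (B * C) * A⁻¹ * (B * C)⁻¹ = A * B * (C * A⁻¹ * C⁻¹) * B⁻¹ := by group
      _ = A * B * z * A⁻¹ * B⁻¹ := by rw [hCA]; group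
      _ = _ := by rw [hzz (A * B)]; group

end Cfsg.Agent.PermGp.TwoAlt
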