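import Mathlib.GroupTheory.Perm.Cycle.Type
import Mathlib.GroupTheory.SpecificGroups.Alternating
import Mathlib.GroupTheory.Perm.ConjAct
import Mathlib.Tactic.Ring
import Mathlib.Tactic.Linarith

/-!
# Even permutations as products of two conjugate involutions
-/

set_option autoImplicit false

namespace Cfsg.Agent.PermGp.TwoAlt

open Equiv

variable {α : Type*} [Fintype α] [DecidableEq α]

theorem involution_inv {t : Perm α} (h : t * t = 1) : t⁻¹ = t := inv_eq_of_mul_eq_one_right h

theorem cycleType_involution {t : Perm α} (h : t * t = 1) :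
    t.cycleType = Multiset.replicate (t.support.card / 2) 2 := by
  have h2 : ∀ n ∈ t.cycleType, n = 2 := fun n hn => by
    have h3 := (Perm.dvd_of_mem_cycleType hn).trans (orderOf_dvd_of_pow_eq_one (n := 2) (by rw [pow_two]; exact h))
    have := Perm.two_le_of_mem_cycleType hn
    have := Nat.le_of_dvd two_pos h3
    omega
  have hrep := Multiset.eq_replicate.mpr ⟨rfl, h2⟩
  have hs := Perm.sum_cycleType t
  rw [hrep, Multiset.sum_replicate, smul_eq_mul] at hs
  rw [hrep, ← hs, Nat.mul_div_cancel _ two_pos]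

theorem even_card_support {t : Perm α} (h : t * t = 1) : 2 ∣ t.support.card := by
  rw [← Perm.sum_cycleType, cycleType_involution h, Multiset.sum_replicate, smul_eq_mul]
  exact dvd_mul_left 2 _

theorem sign_involution {t : Perm α} (h : t * t = 1) : Perm.sign t = (-1) ^ (t.support.card / 2) := by
  rw [Perm.sign_of_cycleType, cycleType_involution h, Multiset.sum_replicate, Multiset.card_replicate,
    smul_eq_mul, pow_add, pow_mul', neg_one_sq, one_pow, one_mul]

/-- A reversal of a permutation: an involution whose product with it is an involution. -/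
structure IsRev (σ t : Perm α) : Prop where
  sq : t * t = 1
  sq' : t * σ * (t * σ) = 1
  supp : t.support ⊆ σ.support

theorem IsRev.supp' {σ t : Perm α} (h : IsRev σ t) : (t * σ).support ⊆ σ.support := fun z hz => by
  rw [Perm.mem_support, Perm.mul_apply] at hz
  rw [Perm.mem_support]
  intro e
  rw [e] at hz
  exact Perm.mem_support.mp (h.supp (Perm.mem_support.mpr hz)) e

/-- Shifting a reversal exchanges the two involutions up to conjugacy. -/
theorem IsRev.shift {σ t : Perm α} (h : IsRev σ t) :
    IsRev σ (t * σ) ∧ (t * σ * σ).support.card = t.support.card := by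
  have e : t * σ * σ = σ⁻¹ * t * σ := by
    have h1 : t * σ * t = σ⁻¹ := eq_inv_of_mul_eq_one_left (by rw [← h.sq']; group)
    calc t * σ * σ = t * σ * (t * t) * σ := by rw [h.sq, mul_one]
      _ = (t * σ * t) * t * σ := by group
      _ = _ := by rw [h1]
  refine ⟨⟨h.sq', ?_, h.supp'⟩, ?_⟩
  · rw [e, show σ⁻¹ * t * σ * (σ⁻¹ * t * σ) = σ⁻¹ * (t * t) * σ by group, h.sq, mul_one, inv_mul_cancel]
  · rw [e, show σ⁻¹ * t * σ = σ⁻¹ * t * σ⁻¹⁻¹ by rw [inv_inv], Perm.card_support_conj]

/-- A cycle has a reversal fixing one of its points. -/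
theorem exists_rev_cycle {c : Perm α} (hc : c.IsCycle) :
    ∃ t, IsRev c t ∧ ∃ x ∈ c.support, t x = x := by
  classical
  obtain ⟨x, hx⟩ := Finset.card_pos.mp (lt_of_lt_of_le two_pos hc.two_le_card_support)
  obtain ⟨g, hg⟩ := isConj_iff.mp (Perm.isConj_iff_cycleType_eq.mpr (Perm.cycleType_inv c).symm)
  have hgsupp : ∀ z, g z ∈ c.support ↔ z ∈ c.support := fun z => by
    have h1 : (g * c * g⁻¹) (g z) = c⁻¹ (g z) := by rw [hg]
    conv_lhs => rw [← Perm.support_inv c]
    rw [Perm.mem_support, Perm.mem_support, ← h1, Perm.mul_apply, Perm.mul_apply,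
      Perm.inv_def, Equiv.symm_apply_apply, g.injective.ne_iff]
  obtain ⟨i, hi⟩ := hc.exists_zpow_eq (Perm.mem_support.mp ((hgsupp x).mpr hx)) (Perm.mem_support.mp hx)
  -- normalise so that `x` is fixed
  set h := c ^ i * g with hh
  have hhx : h x = x := hi
  have hhc : h * c * h⁻¹ = c⁻¹ := by
    rw [hh, show c ^ i * g * c * (c ^ i * g)⁻¹ = c ^ i * (g * c * g⁻¹) * (c ^ i)⁻¹ by group, hg]
    group
  have hhs : ∀ z, h z ∈ c.support ↔ z ∈ c.support := fun z => by
    rw [hh, Perm.mul_apply, Perm.zpow_apply_mem_support, hgsupp]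
  clear_value h
  set t : Perm α := Perm.ofSubtype (Perm.subtypePerm h hhs) with ht
  have htin : ∀ z ∈ c.support, t z = h z := fun z hz => by
    rw [ht, Perm.ofSubtype_apply_of_mem _ hz, Perm.subtypePerm_apply]
  have htout : ∀ z, z ∉ c.support → t z = z := fun z hz => Perm.ofSubtype_apply_of_not_mem _ hz
  have hpow : ∀ j : ℤ, h ((c ^ j) x) = (c ^ (-j)) x := fun j => by
    have h1 : h * c ^ j * h⁻¹ = c ^ (-j) := by rw [← conj_zpow, hhc, inv_zpow, zpow_neg]
    rw [← h1, Perm.mul_apply, Perm.mul_apply, Perm.inv_eq_iff_eq.mpr hhx.symm]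
  have hsq : ∀ z ∈ c.support, h (h z) = z := fun z hz => by
    obtain ⟨j, rfl⟩ := hc.exists_zpow_eq (Perm.mem_support.mp hx) (Perm.mem_support.mp hz)
    rw [hpow, hpow, neg_neg]
  have hhcz : ∀ z, h (c z) = c⁻¹ (h z) := fun z => by
    rw [← hhc, Perm.mul_apply, Perm.mul_apply, Perm.inv_def, Equiv.symm_apply_apply]
  refine ⟨t, ⟨Perm.ext fun z => ?_, Perm.ext fun z => ?_, fun z hz => ?_⟩, x, hx, by rw [htin x hx, hhx]⟩
  · rw [Perm.mul_apply, Perm.one_apply]
    by_cases hz : z ∈ c.support
    · rw [htin z hz, htin _ ((hhs z).mpr hz), hsq z hz]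
    · rw [htout z hz, htout z hz]
  · simp only [Perm.mul_apply, Perm.one_apply]
    by_cases hz : z ∈ c.support
    · have hz1 : c z ∈ c.support := Perm.apply_mem_support.mpr hz
      rw [htin _ hz1, hhcz]
      rw [show c (c⁻¹ (h z)) = h z by rw [← Perm.mul_apply, mul_inv_cancel, Perm.one_apply],
        htin _ ((hhs z).mpr hz), hsq z hz]
    · have e : c z = z := Perm.notMem_support.mp hz
      rw [e, htout z hz, e, htout z hz]
  · by_contra h1
    exact Perm.mem_support.mp hz (htout z h1)

/-- Even permutations have balanced reversals, odd ones are off by one transposition. -/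
theorem exists_rev (σ : Perm α) :
    ∃ t, IsRev σ t ∧ (Perm.sign σ = 1 → t.support.card = (t * σ).support.card) ∧
      (Perm.sign σ = -1 → t.support.card + 2 = (t * σ).support.card ∨ (t * σ).support.card + 2 = t.support.card) ∧
      (σ ≠ 1 → t.support ≠ σ.support ∨ (t * σ).support ≠ σ.support) := by
  induction σ using Perm.cycle_induction_on with
  | base_one =>
    refine ⟨1, ⟨one_mul 1, by simp, subset_rfl⟩, fun _ => by simp, fun h => ?_, fun h => absurd rfl h⟩
    rw [map_one] at h
    exact absurd h (by decide)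
  | base_cycles c hc =>
    obtain ⟨t, ht, x, hx, hxt⟩ := exists_rev_cycle hc
    have hne : t.support ≠ c.support := fun e => Perm.notMem_support.mpr hxt (e ▸ hx)
    -- at most two fixed points on the cycle
    have hbound : ∀ s : Perm α, IsRev c s → c.support.card ≤ s.support.card + 2 := by
      intro s hs
      by_contra hlt
      have h3 : 2 < (c.support \ s.support).card := by
        have := Finset.le_card_sdiff s.support c.support
        omega
      obtain ⟨y, hy, z, hz, w, hw, hyz, hyw, hzw⟩ := Finset.two_lt_card.mp h3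
      rw [Finset.mem_sdiff, Perm.notMem_support] at hy hz hw
      have h1 : s * c * s⁻¹ = c⁻¹ := by
        rw [involution_inv hs.sq]
        exact eq_inv_of_mul_eq_one_left (by rw [← hs.sq']; group)
      have key : ∀ v, v ∈ c.support → s v = v → ∃ j : ℤ, (c ^ j) y = v ∧ (c ^ (2 * j)) y = y := fun v hv hsv => by
        obtain ⟨j, hj⟩ := hc.exists_zpow_eq (Perm.mem_support.mp hy.1) (Perm.mem_support.mp hv)
        refine ⟨j, hj, ?_⟩
        have h2 : s * c ^ j * s⁻¹ = c ^ (-j) := by rw [← conj_zpow, h1, inv_zpow, zpow_neg]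
        have h3 : (c ^ (-j)) y = (c ^ j) y := by
          rw [← h2, Perm.mul_apply, Perm.mul_apply, Perm.inv_eq_iff_eq.mpr hy.2.symm, hj, hsv]
        rw [two_mul, zpow_add, Perm.mul_apply, ← h3, ← Perm.mul_apply, ← zpow_add, add_neg_cancel, zpow_zero,
          Perm.one_apply]
      obtain ⟨j, hj, hj2⟩ := key z hz.1 hz.2
      obtain ⟨i, hi, hi2⟩ := key w hw.1 hw.2
      have hdiv : ∀ l : ℤ, (c ^ l) y = y → (orderOf c : ℤ) ∣ l := fun l hl => by
        rw [orderOf_dvd_iff_zpow_eq_one]
        ext v
        rw [Perm.one_apply]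
        by_cases hv : v ∈ c.support
        · obtain ⟨k, rfl⟩ := hc.exists_zpow_eq (Perm.mem_support.mp hy.1) (Perm.mem_support.mp hv)
          rw [← Perm.mul_apply, zpow_mul_comm, Perm.mul_apply, hl]
        · exact Perm.zpow_apply_eq_self_of_apply_eq_self (Perm.notMem_support.mp hv) l
      have hfix : ∀ l : ℤ, (orderOf c : ℤ) ∣ l → (c ^ l) y = y := fun l hl => by
        rw [orderOf_dvd_iff_zpow_eq_one.mp hl, Perm.one_apply]
      obtain ⟨a, ha⟩ := hdiv _ hj2
      obtain ⟨b, hb⟩ := hdiv _ hi2
      have ha2 : a % 2 = 1 := by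
        by_contra h
        refine hyz ((hfix j ⟨a / 2, ?_⟩).symm.trans hj)
        have e : a = 2 * (a / 2) := by omega
        exact mul_left_cancel₀ (two_ne_zero : (2 : ℤ) ≠ 0) (by rw [ha, mul_left_comm, ← e])
      have hb2 : b % 2 = 1 := by
        by_contra h
        refine hyw ((hfix i ⟨b / 2, ?_⟩).symm.trans hi)
        have e : b = 2 * (b / 2) := by omega
        exact mul_left_cancel₀ (two_ne_zero : (2 : ℤ) ≠ 0) (by rw [hb, mul_left_comm, ← e])
      apply hzw
      have hd : (orderOf c : ℤ) ∣ i - j := ⟨(b - a) / 2, by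
        have e : b - a = 2 * ((b - a) / 2) := by omega
        exact mul_left_cancel₀ (two_ne_zero : (2 : ℤ) ≠ 0) (by rw [mul_sub, hb, ha, mul_left_comm, ← e, mul_sub])⟩
      rw [← hj, ← hi, show i = j + (i - j) by ring, zpow_add, Perm.mul_apply, hfix _ hd]
    have b1 := hbound t ht
    have b2 := hbound (t * c) ht.shift.1
    have c1 := Finset.card_le_card ht.supp
    have c2 := Finset.card_le_card ht.supp'
    obtain ⟨m, hm⟩ := even_card_support ht.sq
    obtain ⟨m', hm'⟩ := even_card_support ht.sq'
    have hsg : Perm.sign t * Perm.sign (t * c) = Perm.sign c := by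
      rw [map_mul, ← mul_assoc, Int.units_mul_self, one_mul]
    rw [sign_involution ht.sq, sign_involution ht.sq', ← pow_add, hm, hm', Nat.mul_div_cancel_left _ two_pos,
      Nat.mul_div_cancel_left _ two_pos] at hsg
    refine ⟨t, ht, fun h => ?_, fun h => ?_, fun _ => Or.inl hne⟩
    · rw [h, neg_one_pow_eq_one_iff_even (by decide)] at hsg
      obtain ⟨e, he⟩ := hsg
      omega
    · rcases Nat.even_or_odd (m + m') with he | he
      · rw [h, he.neg_one_pow] at hsg
        exact absurd hsg (by decide)
      · obtain ⟨e, he⟩ := he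
        omega
  | induction_disjoint σ τ hd _ ih1 ih2 =>
    obtain ⟨t1, h1, e1, o1, n1⟩ := ih1
    obtain ⟨t2, h2, e2, o2, n2⟩ := ih2
    -- shifting adjusts the excess
    obtain ⟨t2', h2', hcase⟩ : ∃ t2', IsRev τ t2' ∧ (t2' = t2 ∨ t2' = t2 * τ) ∧
        (Perm.sign (σ * τ) = 1 → t1.support.card + t2'.support.card = (t1 * σ).support.card + (t2' * τ).support.card) ∧
        (Perm.sign (σ * τ) = -1 →
          t1.support.card + t2'.support.card + 2 = (t1 * σ).support.card + (t2' * τ).support.card ∨
          (t1 * σ).support.card + (t2' * τ).support.card + 2 = t1.support.card + t2'.support.card) := by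
      rcases Int.units_eq_one_or (Perm.sign σ) with hs | hs <;> rcases Int.units_eq_one_or (Perm.sign τ) with ht | ht
      · refine ⟨t2, h2, Or.inl rfl, fun _ => ?_, fun h => ?_⟩
        · rw [e1 hs, e2 ht]
        · rw [map_mul, hs, ht] at h; exact absurd h (by decide)
      · refine ⟨t2, h2, Or.inl rfl, fun h => ?_, fun _ => ?_⟩
        · rw [map_mul, hs, ht] at h; exact absurd h (by decide)
        · rcases o2 ht with e | e <;> [left; right] <;> · rw [e1 hs]; omega
      · refine ⟨t2, h2, Or.inl rfl, fun h => ?_, fun _ => ?_⟩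
        · rw [map_mul, hs, ht] at h; exact absurd h (by decide)
        · rcases o1 hs with e | e <;> [left; right] <;> · rw [e2 ht]; omega
      · by_cases hdir : t1.support.card + t2.support.card = (t1 * σ).support.card + (t2 * τ).support.card
        · exact ⟨t2, h2, Or.inl rfl, fun _ => hdir, fun h => absurd h (by rw [map_mul, hs, ht]; decide)⟩
        · refine ⟨t2 * τ, h2.shift.1, Or.inr rfl, fun _ => ?_, fun h => absurd h (by rw [map_mul, hs, ht]; decide)⟩
          rw [h2.shift.2]
          rcases o1 hs with a | a <;> rcases o2 ht with b | b <;> omega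
    obtain ⟨ht', hev, hod⟩ := hcase
    have hD : ∀ {u v : Perm α}, u.support ⊆ σ.support → v.support ⊆ τ.support → Perm.Disjoint u v := fun hu hv =>
      Perm.disjoint_iff_disjoint_support.mpr (Finset.disjoint_of_subset_left hu
        (Finset.disjoint_of_subset_right hv (Perm.disjoint_iff_disjoint_support.mp hd)))
    have hc : t1 * t2' * (σ * τ) = t1 * σ * (t2' * τ) := by
      rw [mul_assoc, ← mul_assoc t2', ← (hD subset_rfl h2'.supp).commute.eq]; group
    have d1 := hD h1.supp h2'.supp
    have d2 := hD h1.supp' h2'.supp'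
    refine ⟨t1 * t2', ⟨?_, ?_, ?_⟩, ?_, ?_, fun _ => ?_⟩
    · rw [mul_assoc, ← mul_assoc t2', ← d1.commute.eq, mul_assoc, h2'.sq, mul_one, h1.sq]
    · rw [hc, mul_assoc, ← mul_assoc (t2' * τ), ← d2.commute.eq, mul_assoc (t1 * σ) (t2' * τ), h2'.sq', mul_one, h1.sq']
    · rw [d1.support_mul, hd.support_mul]
      exact Finset.union_subset_union h1.supp h2'.supp
    · rw [hc, d1.card_support_mul, d2.card_support_mul]; exact hev
    · rw [hc, d1.card_support_mul, d2.card_support_mul]; exact hod
    · rw [hc, d1.support_mul, d2.support_mul, hd.support_mul]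
      have hdj := Perm.disjoint_iff_disjoint_support.mp hd
      have hpart : ∀ {A B : Finset α}, A ⊆ σ.support → B ⊆ τ.support → A ∪ B = σ.support ∪ τ.support →
          A = σ.support := fun {A B} hA hB he => Finset.Subset.antisymm hA fun z hz => by
        have hz' : z ∈ A ∪ B := he ▸ Finset.mem_union_left _ hz
        exact (Finset.mem_union.mp hz').resolve_right fun h => Finset.disjoint_left.mp hdj hz (hB h)
      have hpart' : ∀ {A B : Finset α}, A ⊆ σ.support → B ⊆ τ.support → A ∪ B = σ.support ∪ τ.support →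
          B = τ.support := fun {A B} hA hB he => Finset.Subset.antisymm hB fun z hz => by
        have hz' : z ∈ A ∪ B := he ▸ Finset.mem_union_right _ hz
        exact (Finset.mem_union.mp hz').resolve_left fun h => Finset.disjoint_left.mp hdj (hA h) hz
      by_contra hcon
      push Not at hcon
      obtain ⟨p1, p2⟩ := hcon
      have q1 := hpart h1.supp h2'.supp p1
      have q1' := hpart h1.supp' h2'.supp' p2
      by_cases hσ : σ = 1
      · subst hσ
        simp at *
      · rcases n1 hσ with r | r
        · exact r q1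
        · exact r q1'

end Cfsg.Agent.PermGp.TwoAlt
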